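import Cfsg.Agent.Yoshida.Wreath
import Cfsg.Agent.CoprimeAction.Frattini
import Mathlib.GroupTheory.Transfer

/-!
Homomorphisms to `C_p`, and Yoshida's lemma on the transfer from a proper subgroup of a `p`-group.
-/

set_option autoImplicit false
set_option linter.style.haveILetI false

namespace CfsgLib.Yoshida

variable {p : ℕ} [Fact p.Prime] {G : Type*} [Group G] [Finite G]

/-- A maximal subgroup of a finite `p`-group has index `p`. -/
lemma index_eq_of_isCoatom (hG : IsPGroup p G) {M : Subgroup G} (hM : IsCoatom M) : M.index = p := by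
  have h := (CfsgLib.Transfer.coatom_spec hG hM).2
  rw [← M.card_mul_index] at h
  exact (Nat.eq_of_mul_eq_mul_left Nat.card_pos h).symm

/-- A normal subgroup of elementary abelian index is an intersection of kernels of maps to `C_p`. -/
theorem exists_hom_ne_one (hG : IsPGroup p G) {N : Subgroup G} [N.Normal] (hc : commutator G ≤ N)
    (hpow : ∀ x : G, x ^ p ∈ N) {y : G} (hy : y ∉ N) :
    ∃ μ : G →* Multiplicative (ZMod p), (∀ n ∈ N, μ n = 1) ∧ μ y ≠ 1 := by
  have hπ := QuotientGroup.mk'_surjective N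
  have hΦ : frattini (G ⧸ N) ≤ ⊥ := by
    refine CfsgLib.CoprimeAction.frattini_le_of_elementary (p := p) ⊥ ?_ fun x => ?_
    · rw [commutator_def, Subgroup.commutator_le]
      intro a _ b _
      obtain ⟨a, rfl⟩ := hπ a
      obtain ⟨b, rfl⟩ := hπ b
      rw [← map_commutatorElement]
      exact Subgroup.mem_bot.2 ((QuotientGroup.eq_one_iff _).2
        (hc (Subgroup.commutator_mem_commutator (Subgroup.mem_top a) (Subgroup.mem_top b))))
    · obtain ⟨x, rfl⟩ := hπ x
      rw [← map_pow]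
      exact Subgroup.mem_bot.2 ((QuotientGroup.eq_one_iff _).2 (hpow x))
  obtain ⟨C, hC, hyC⟩ : ∃ C : Subgroup (G ⧸ N), IsCoatom C ∧ QuotientGroup.mk' N y ∉ C := by
    by_contra h
    push Not at h
    have h1 : QuotientGroup.mk' N y ∈ frattini (G ⧸ N) := by
      simp only [frattini, Order.radical, Subgroup.mem_iInf, Set.mem_setOf_eq]
      exact h
    exact hy ((QuotientGroup.eq_one_iff y).1 (Subgroup.mem_bot.1 (hΦ h1)))
  have hpQ : IsPGroup p (G ⧸ N) := hG.to_quotient N
  haveI := (CfsgLib.Transfer.coatom_spec hpQ hC).1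
  have hcard : Nat.card ((G ⧸ N) ⧸ C) = p := by rw [← Subgroup.index_eq_card, index_eq_of_isCoatom hpQ hC]
  let e : (G ⧸ N) ⧸ C ≃* Multiplicative (ZMod p) :=
    mulEquivOfPrimeCardEq (p := p) hcard (by rw [Nat.card_congr Multiplicative.toAdd, Nat.card_zmod])
  refine ⟨e.toMonoidHom.comp ((QuotientGroup.mk' C).comp (QuotientGroup.mk' N)), fun n hn => ?_, fun h => hyC ?_⟩
  · show e (QuotientGroup.mk' C (QuotientGroup.mk' N n)) = 1
    rw [show QuotientGroup.mk' N n = 1 from (QuotientGroup.eq_one_iff n).2 hn, map_one, map_one]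
  · exact (QuotientGroup.eq_one_iff _).1 (e.map_eq_one_iff.1 h)

/-- Without wreath quotient, the transfer from a proper subgroup vanishes on an element whose proper `p`-powers are
killed. -/
theorem transfer_eq_one_of_proper (hG : IsPGroup p G)
    (hw : ¬ ∃ (W : Sylow p (Equiv.Perm (Fin (p ^ 2)))) (f : G →* (W : Subgroup (Equiv.Perm (Fin (p ^ 2))))),
      Function.Surjective f)
    {R : Subgroup G} (hR : R ≠ ⊤) (lam : R →* Multiplicative (ZMod p)) {k : G}
    (hk : ∀ (g : G) (m : ℕ), p ∣ m → ∀ h : g⁻¹ * k ^ m * g ∈ R, lam ⟨_, h⟩ = 1) :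
    MonoidHom.transfer lam k = 1 := by
  classical
  obtain ⟨M, hM, hRM⟩ := (eq_top_or_exists_le_coatom R).resolve_left hR
  haveI hMn : M.Normal := (CfsgLib.Transfer.coatom_spec hG hM).1
  have hidx := index_eq_of_isCoatom hG hM
  obtain ⟨g, hg⟩ : ∃ g : G, g ∉ M := by
    by_contra h
    push Not at h
    exact hM.1 ((Subgroup.eq_top_iff' M).2 h)
  by_cases hkM : k ∈ M
  swap
  · -- no fixed points
    letI : Fintype (Quotient (MulAction.orbitRel (Subgroup.zpowers k) (G ⧸ R))) := Fintype.ofFinite _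
    rw [MonoidHom.transfer_eq_prod_quotient_orbitRel_zpowers_quot]
    refine Finset.prod_eq_one fun q _ => ?_
    refine hk q.out.out _ ?_ _
    obtain ⟨a, ha⟩ := IsPGroup.iff_orderOf.1 hG k
    have hd : Function.minimalPeriod (k • ·) q.out ∣ p ^ a := by
      rw [← Function.isPeriodicPt_iff_minimalPeriod_dvd, Function.IsPeriodicPt, Function.IsFixedPt, smul_iterate]
      show k ^ p ^ a • q.out = q.out
      rw [← ha, pow_orderOf_eq_one, one_smul]
    obtain ⟨b, -, hb⟩ := (Nat.dvd_prime_pow (Fact.out : p.Prime)).1 hd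
    rcases Nat.eq_zero_or_pos b with rfl | hb0
    · exfalso
      have h1 := QuotientGroup.out_conj_pow_minimalPeriod_mem R k q.out
      rw [hb, pow_zero, pow_one] at h1
      have h2 := hMn.conj_mem _ (hRM h1) q.out.out
      rw [show q.out.out * (q.out.out⁻¹ * k * q.out.out) * q.out.out⁻¹ = k by group] at h2
      exact hkM h2
    · rw [hb]
      exact dvd_pow_self p hb0.ne'
  -- transitivity through `M`
  letI : Fintype (G ⧸ M) := M.fintypeQuotientOfFiniteIndex
  let e' := (Subgroup.subgroupOfEquivOfLe hRM)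
  let μ : M →* Multiplicative (ZMod p) := MonoidHom.transfer (lam.comp e'.toMonoidHom)
  have key : MonoidHom.transfer lam k = ∏ s : G ⧸ M, μ ⟨s.out⁻¹ * k * s.out, by
      simpa using hMn.conj_mem k hkM s.out⁻¹⟩ := by
    letI : Fintype (G ⧸ R) := R.fintypeQuotientOfFiniteIndex
    letI : Fintype (M ⧸ R.subgroupOf M) := (R.subgroupOf M).fintypeQuotientOfFiniteIndex
    let B : (G ⧸ M) × (M ⧸ R.subgroupOf M) → G ⧸ R := fun x => ((x.1.out * (x.2.out : M) : G) : G ⧸ R)
    have hB : Function.Bijective B := by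
      constructor
      · rintro ⟨s, t⟩ ⟨s', t'⟩ he
        have h1 : (s.out * (t.out : M))⁻¹ * (s'.out * (t'.out : M)) ∈ R := QuotientGroup.eq.1 he
        have h2 : s = s' := by
          rw [← s.out_eq', ← s'.out_eq']
          refine QuotientGroup.eq.2 ?_
          have h3 := M.mul_mem (M.mul_mem (t.out).2 (hRM h1)) (M.inv_mem (t'.out).2)
          simpa [mul_assoc] using h3
        subst h2
        have h4 : t = t' := by
          rw [← t.out_eq', ← t'.out_eq']
          refine QuotientGroup.eq.2 (Subgroup.mem_subgroupOf.2 ?_)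
          simpa [mul_assoc] using h1
        rw [h4]
      · intro q
        obtain ⟨x, rfl⟩ := QuotientGroup.mk_surjective q
        have h1 : ((x : G ⧸ M)).out⁻¹ * x ∈ M := QuotientGroup.eq.1 (Quotient.out_eq' (x : G ⧸ M))
        refine ⟨((x : G ⧸ M), ((⟨_, h1⟩ : M) : M ⧸ R.subgroupOf M)), QuotientGroup.eq.2 ?_⟩
        have h2 : (((⟨_, h1⟩ : M) : M ⧸ R.subgroupOf M)).out⁻¹ * (⟨_, h1⟩ : M) ∈ R.subgroupOf M :=
          QuotientGroup.eq.1 (Quotient.out_eq' ((⟨_, h1⟩ : M) : M ⧸ R.subgroupOf M))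
        have h3 := Subgroup.mem_subgroupOf.1 h2
        simpa [mul_assoc] using h3
    let E := Equiv.ofBijective B hB
    let r : G ⧸ R → G := fun q => (E.symm q).1.out * ((E.symm q).2.out : M)
    have hr : ∀ q, ((r q : G) : G ⧸ R) = q := fun q => E.apply_symm_apply q
    let T : R.LeftTransversal := ⟨Set.range r, Subgroup.isComplement_range_left hr⟩
    let T' : (R.subgroupOf M).LeftTransversal :=
      ⟨Set.range (Quotient.out : M ⧸ R.subgroupOf M → M), Subgroup.isComplement_range_left Quotient.out_eq'⟩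
    rw [MonoidHom.transfer_def _ T, Subgroup.leftTransversals.diff, ← E.prod_comp, Fintype.prod_prod_type]
    refine Finset.prod_congr rfl fun s _ => ?_
    rw [show μ _ = _ from MonoidHom.transfer_def _ T' _, Subgroup.leftTransversals.diff]
    refine Finset.prod_congr rfl fun t _ => ?_
    show lam _ = lam (e' _)
    refine congrArg lam (Subtype.ext ?_)
    have hTq : ∀ q, (T.2.leftQuotientEquiv q : G) = r q := fun q => Subgroup.IsComplement.leftQuotientEquiv_apply hr q
    have hTq' : ∀ q, (T'.2.leftQuotientEquiv q : M) = Quotient.out q := fun q =>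
      Subgroup.IsComplement.leftQuotientEquiv_apply Quotient.out_eq' q
    set ks : M := ⟨s.out⁻¹ * k * s.out, by simpa using hMn.conj_mem k hkM s.out⁻¹⟩ with hks
    have hE : k⁻¹ • E (s, t) = E (s, ks⁻¹ • t) := by
      have h1 : ((ks⁻¹ * t.out : M) : M ⧸ R.subgroupOf M) = ks⁻¹ • t := by
        conv_rhs => rw [← t.out_eq']
        rfl
      have h2 : (ks⁻¹ * t.out : M)⁻¹ * (ks⁻¹ • t).out ∈ R.subgroupOf M :=
        QuotientGroup.eq.1 (h1.trans (Quotient.out_eq' _).symm)
      show ((k⁻¹ * (s.out * (t.out : M)) : G) : G ⧸ R) = ((s.out * ((ks⁻¹ • t).out : M) : G) : G ⧸ R)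
      refine QuotientGroup.eq.2 ?_
      have h3 := Subgroup.mem_subgroupOf.1 h2
      simpa [hks, mul_assoc] using h3
    show (T.2.leftQuotientEquiv (E (s, t)) : G)⁻¹ * ((k • T).2.leftQuotientEquiv (E (s, t)) : G) =
      (((T'.2.leftQuotientEquiv t : M)⁻¹ * ((ks • T').2.leftQuotientEquiv t : M) : M) : G)
    rw [Subgroup.smul_apply_eq_smul_apply_inv_smul, Subgroup.smul_apply_eq_smul_apply_inv_smul, hTq, hTq, hTq', hTq', hE]
    simp only [r, Equiv.symm_apply_apply, smul_eq_mul, Subgroup.coe_mul, Subgroup.coe_inv, hks]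
    group
  rw [key]
  by_contra hne
  refine hw (exists_wreath_quotient hG hidx μ hg ⟨k, hkM⟩ ?_)
  intro h1
  refine hne (Eq.trans ?_ h1)
  have hμconj : ∀ (m : M) (a b : G) (hab : a⁻¹ * b ∈ M) (ha : a⁻¹ * m * a ∈ M) (hb : b⁻¹ * m * b ∈ M),
      μ ⟨_, hb⟩ = μ ⟨_, ha⟩ := by
    intro m a b hab ha hb
    rw [show (⟨b⁻¹ * m * b, hb⟩ : M) = (⟨_, hab⟩ : M)⁻¹ * ⟨a⁻¹ * m * a, ha⟩ * ⟨_, hab⟩ from Subtype.ext (by
      show b⁻¹ * m * b = (a⁻¹ * b)⁻¹ * (a⁻¹ * m * a) * (a⁻¹ * b)
      group), map_mul, map_mul, map_inv, mul_right_comm, inv_mul_cancel, one_mul]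
  -- the powers of `g` represent the cosets
  have hord : orderOf (g : G ⧸ M) = p := orderOf_eq_prime
    (by
      rw [← QuotientGroup.mk_pow, QuotientGroup.eq_one_iff]
      have := M.pow_index_mem g
      rwa [hidx] at this)
    (fun h => hg ((QuotientGroup.eq_one_iff g).1 h))
  have hinj : Set.InjOn (fun i : ℕ => (g : G ⧸ M) ^ i) (Finset.range p : Finset ℕ) := by
    intro i hi j hj he
    exact pow_injOn_Iio_orderOf (hord.symm ▸ Finset.mem_range.1 hi) (hord.symm ▸ Finset.mem_range.1 hj) he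
  have himg : (Finset.range p).image (fun i : ℕ => (g : G ⧸ M) ^ i) = Finset.univ := by
    refine Finset.eq_univ_of_card _ ?_
    rw [Finset.card_image_of_injOn hinj, Finset.card_range, ← Nat.card_eq_fintype_card, ← Subgroup.index_eq_card,
      hidx]
  rw [← himg, Finset.prod_image hinj]
  refine Finset.prod_congr rfl fun i _ => ?_
  refine (hμconj ⟨k, hkM⟩ (g ^ i) ((g : G ⧸ M) ^ i).out ?_ _ _)
  refine QuotientGroup.eq.1 ?_
  rw [QuotientGroup.mk_pow, QuotientGroup.out_eq']

end CfsgLib.Yoshida
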