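import Mathlib
import Cfsg.Agent.Transfer.FrattiniP

/-!
A criterion for the wreath product `C_p ≀ C_p` to be a quotient of a `p`-group.
-/

set_option autoImplicit false
set_option linter.style.haveILetI false

namespace CfsgLib.Yoshida

open scoped AddMonoidAlgebra

variable {p : ℕ} [Fact p.Prime]

/-- The Sylow `p`-subgroups of the symmetric group of degree `p²` have order `p ^ (p + 1)`. -/
lemma card_sylow_perm_sq (W : Sylow p (Equiv.Perm (Fin (p ^ 2)))) :
    Nat.card (W : Subgroup (Equiv.Perm (Fin (p ^ 2)))) = p ^ (p + 1) := by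
  rw [W.card_eq_multiplicity, Nat.card_perm, Nat.card_fin]
  congr 1
  rw [Nat.factorization_def _ (Fact.out : p.Prime), pow_two, padicValNat_factorial_mul]
  have h1 := padicValNat_factorial_mul (p := p) 1
  rw [mul_one, Nat.factorial_one, padicValNat_one_right] at h1
  omega

/-- An additive submonoid closed under translations of the group algebra that contains an element of nonzero
augmentation is everything. -/
lemma eq_top_of_augmentation (V : AddSubmonoid (ZMod p)[ZMod p])
    (hshift : ∀ (i : ZMod p), ∀ x ∈ V, AddMonoidAlgebra.single i (1 : ZMod p) * x ∈ V)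
    (a : ZMod p → ZMod p) (hv : ∑ i, AddMonoidAlgebra.single i (a i) ∈ V) (ha : ∑ i, a i ≠ 0)
    (r : (ZMod p)[ZMod p]) : r ∈ V := by
  haveI : CharP (ZMod p)[ZMod p] p :=
    charP_of_injective_ringHom (f := AddMonoidAlgebra.singleZeroRingHom) (fun x y h => by
      simpa using congrArg (fun z : (ZMod p)[ZMod p] => z.coeff 0) h) p
  have hmul : ∀ (r : (ZMod p)[ZMod p]), ∀ x ∈ V, r * x ∈ V := by
    intro r x hx
    induction r using AddMonoidAlgebra.induction_linear with
    | zero => rw [zero_mul]; exact V.zero_mem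
    | add f g hf hg => rw [add_mul]; exact V.add_mem hf hg
    | single i c =>
      have h1 : AddMonoidAlgebra.single i c = c.val • (AddMonoidAlgebra.single i (1 : ZMod p)) := by
        rw [AddMonoidAlgebra.smul_single, nsmul_eq_mul, mul_one, ZMod.natCast_zmod_val]
      rw [h1, smul_mul_assoc]
      exact V.nsmul_mem (hshift i x hx) _
  set v := ∑ i, AddMonoidAlgebra.single i (a i) with hvdef
  have h2 : v ^ p ∈ V := by
    rw [← pow_sub_one_mul (Fact.out : p.Prime).ne_zero v]
    exact hmul _ _ hv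
  have h3 : v ^ p = AddMonoidAlgebra.single 0 (∑ i, a i) := by
    rw [hvdef, sum_pow_char p]
    refine Eq.trans ?_ (map_sum (AddMonoidAlgebra.singleAddHom (0 : ZMod p)) a Finset.univ).symm
    refine Finset.sum_congr rfl fun i _ => ?_
    rw [AddMonoidAlgebra.single_pow, ZMod.pow_card, nsmul_eq_mul, ZMod.natCast_self, zero_mul]
    rfl
  have h4 := hmul (r * AddMonoidAlgebra.single 0 (∑ i, a i)⁻¹) _ h2
  rwa [h3, mul_assoc, AddMonoidAlgebra.single_mul_single, add_zero, inv_mul_cancel₀ ha,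
    ← AddMonoidAlgebra.one_def, mul_one] at h4

variable {P : Type*} [Group P] [Finite P]

/-- If a homomorphism from a maximal subgroup to `C_p` has a nontrivial norm, `C_p ≀ C_p` is a quotient. -/
theorem exists_wreath_quotient (hP : IsPGroup p P) {M : Subgroup P} [hMn : M.Normal] (hidx : M.index = p)
    (μ : M →* Multiplicative (ZMod p)) {g : P} (hg : g ∉ M) (k : M)
    (hN : ∏ i ∈ Finset.range p,
      μ ⟨(g ^ i)⁻¹ * k * g ^ i, by simpa using hMn.conj_mem k k.2 (g ^ i)⁻¹⟩ ≠ 1) :
    ∃ (W : Sylow p (Equiv.Perm (Fin (p ^ 2)))) (f : P →* (W : Subgroup (Equiv.Perm (Fin (p ^ 2))))),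
      Function.Surjective f := by
  classical
  have hgp : g ^ p ∈ M := by
    have := M.pow_index_mem g
    rwa [hidx] at this
  let c : ℕ → M → M := fun j m => ⟨(g ^ j)⁻¹ * m * g ^ j, by simpa using hMn.conj_mem m m.2 (g ^ j)⁻¹⟩
  have hμc : ∀ (h : P) (hh : h ∈ M) (m : M) (hm : h⁻¹ * m * h ∈ M), μ ⟨h⁻¹ * m * h, hm⟩ = μ m := by
    intro h hh m hm
    rw [show (⟨h⁻¹ * m * h, hm⟩ : M) = (⟨h, hh⟩ : M)⁻¹ * m * ⟨h, hh⟩ from rfl, map_mul, map_mul, map_inv,
      mul_right_comm, inv_mul_cancel, one_mul]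
  have hper : ∀ j m, μ (c (j + p) m) = μ (c j m) := by
    intro j m
    rw [← hμc _ hgp (c j m) (by simpa using hMn.conj_mem _ (c j m).2 (g ^ p)⁻¹)]
    refine congrArg μ (Subtype.ext ?_)
    show (g ^ (j + p))⁻¹ * m * g ^ (j + p) = (g ^ p)⁻¹ * ((g ^ j)⁻¹ * m * g ^ j) * g ^ p
    rw [pow_add]; group
  have hmod : ∀ j m, μ (c (j % p) m) = μ (c j m) := fun j m => by
    have h : ∀ t, μ (c (j % p + t * p) m) = μ (c (j % p) m) := fun t => by
      induction t with
      | zero => simp
      | succ t ih => rw [Nat.succ_mul, ← add_assoc, hper, ih]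
    rw [← h (j / p), Nat.mod_add_div' j p]
  let e : ZMod p → M → ZMod p := fun i m => Multiplicative.toAdd (μ (c i.val m))
  let Φ : M → (ZMod p)[ZMod p] := fun m => ∑ i, AddMonoidAlgebra.single i (e i m)
  have hcmul : ∀ j a b, c j (a * b) = c j a * c j b := fun j a b => Subtype.ext (by
    show (g ^ j)⁻¹ * (a * b : P) * g ^ j = (g ^ j)⁻¹ * a * g ^ j * ((g ^ j)⁻¹ * b * g ^ j)
    group)
  have hΦ : ∀ a b, Φ (a * b) = Φ a + Φ b := fun a b => by
    simp only [Φ, e, hcmul, map_mul, toAdd_mul, AddMonoidAlgebra.single_add, Finset.sum_add_distrib]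
  have hΦ1 : Φ 1 = 0 := by
    have h := hΦ 1 1
    rw [one_mul] at h
    simpa using h
  let V : AddSubmonoid (ZMod p)[ZMod p] :=
    { carrier := Set.range Φ
      add_mem' := by rintro _ _ ⟨a, rfl⟩ ⟨b, rfl⟩; exact ⟨a * b, hΦ a b⟩
      zero_mem' := ⟨1, hΦ1⟩ }
  have hshift1 : ∀ m, AddMonoidAlgebra.single (-1 : ZMod p) (1 : ZMod p) * Φ m = Φ (c 1 m) := by
    intro m
    simp only [Φ, Finset.mul_sum, AddMonoidAlgebra.single_mul_single, one_mul]
    refine Fintype.sum_equiv (Equiv.addLeft (-1 : ZMod p)) _ _ fun i => ?_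
    simp only [Equiv.coe_addLeft]
    congr 1
    simp only [e]
    congr 1
    have hcc : c (((-1 : ZMod p) + i).val) (c 1 m) = c (1 + ((-1 : ZMod p) + i).val) m := Subtype.ext (by
      show (g ^ _)⁻¹ * ((g ^ 1)⁻¹ * m * g ^ 1) * g ^ _ = (g ^ (1 + _))⁻¹ * m * g ^ (1 + _)
      rw [pow_add]; group)
    rw [hcc, ← hmod (1 + _) m, ← hmod i.val m]
    rw [(ZMod.natCast_eq_natCast_iff' (1 + ((-1 : ZMod p) + i).val) i.val p).1 (by
      push_cast [ZMod.natCast_zmod_val]; ring)]
  have hshift : ∀ (i : ZMod p), ∀ x ∈ V, AddMonoidAlgebra.single i (1 : ZMod p) * x ∈ V := by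
    have h : ∀ (j : ℕ), ∀ x ∈ V, AddMonoidAlgebra.single (-(j : ZMod p)) (1 : ZMod p) * x ∈ V := by
      intro j
      induction j with
      | zero => intro x hx; simpa [← AddMonoidAlgebra.one_def] using hx
      | succ j ih =>
        intro x hx
        obtain ⟨m, hm⟩ := ih x hx
        refine ⟨c 1 m, ?_⟩
        rw [← hshift1, hm, ← mul_assoc, AddMonoidAlgebra.single_mul_single, one_mul]
        push_cast
        ring_nf
    intro i x hx
    have := h (-i).val x hx
    rwa [ZMod.natCast_zmod_val, neg_neg] at this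
  have hsum : ∑ i, e i k ≠ 0 := by
    intro h0
    refine hN ?_
    have h1 : ∏ i : ZMod p, μ (c i.val k) = 1 := by
      apply Multiplicative.toAdd.injective
      rw [toAdd_prod, toAdd_one]
      exact h0
    rw [← h1]
    refine Finset.prod_bij' (fun (j : ℕ) _ => (j : ZMod p)) (fun i _ => i.val) (fun j _ => Finset.mem_univ _)
      (fun i _ => Finset.mem_range.2 (ZMod.val_lt i)) (fun j hj => ZMod.val_cast_of_lt (Finset.mem_range.1 hj))
      (fun i _ => ZMod.natCast_zmod_val i) fun j hj => ?_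
    rw [ZMod.val_cast_of_lt (Finset.mem_range.1 hj)]
  -- every tuple of values occurs
  have hsurj : ∀ a : ZMod p → ZMod p, ∃ m : M, ∀ i, e i m = a i := by
    intro a
    obtain ⟨m, hm⟩ := eq_top_of_augmentation V hshift (fun i => e i k) ⟨k, rfl⟩ hsum
      (∑ i, AddMonoidAlgebra.single i (a i))
    refine ⟨m, fun i => ?_⟩
    have h := congrArg (fun z : (ZMod p)[ZMod p] => z.coeff i) hm
    simpa [Φ, AddMonoidAlgebra.coeff_sum, AddMonoidAlgebra.coeff_single_apply, Finsupp.single_apply] using h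
  let K := μ.ker.map M.subtype
  have hμs : Function.Surjective μ := by
    intro b
    obtain ⟨m, hm⟩ := hsurj fun _ => Multiplicative.toAdd b
    exact ⟨c (0 : ZMod p).val m, Multiplicative.toAdd.injective (hm 0)⟩
  have hKcard : Nat.card (P ⧸ K) = p ^ 2 := by
    rw [← Subgroup.index_eq_card, ← Subgroup.relIndex_mul_index (Subgroup.map_subtype_le μ.ker), hidx, pow_two]
    congr 1
    rw [Subgroup.relIndex, Subgroup.subgroupOf, Subgroup.comap_map_eq_self_of_injective M.subtype_injective,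
      Subgroup.index_ker, MonoidHom.range_eq_top.2 hμs, Subgroup.card_top,
      Nat.card_congr Multiplicative.toAdd, Nat.card_zmod]
  let π : P →* Equiv.Perm (Fin (p ^ 2)) :=
    (Equiv.permCongrHom (Finite.equivFinOfCardEq hKcard)).toMonoidHom.comp (MulAction.toPermHom P (P ⧸ K))
  obtain ⟨W, hW⟩ := (hP.of_surjective _ π.rangeRestrict_surjective).exists_le_sylow
  refine ⟨W, π.codRestrict _ (fun x => hW ⟨x, rfl⟩), ?_⟩
  suffices hge : p ^ (p + 1) ≤ Nat.card π.range by
    intro w
    obtain ⟨x, hx⟩ := (Subgroup.eq_of_le_of_card_ge hW ((card_sylow_perm_sq W).le.trans hge)).ge w.2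
    exact ⟨x, Subtype.ext hx⟩
  have hker : ∀ x ∈ π.ker, ∃ hx : x ∈ M, ∀ i, e i ⟨x, hx⟩ = 0 := by
    intro x hx
    have hx' : ∀ q : P ⧸ K, x • q = q := fun q =>
      Equiv.ext_iff.1 ((Equiv.permCongrHom (Finite.equivFinOfCardEq hKcard)).injective
        (hx.trans (map_one _).symm) : MulAction.toPermHom P (P ⧸ K) x = 1) q
    have h1 : ∀ h : P, h⁻¹ * x * h ∈ K := fun h => by
      have := QuotientGroup.eq.1 (hx' (h : P ⧸ K)).symm
      simpa [mul_assoc] using this
    have hxM : x ∈ M := Subgroup.map_subtype_le μ.ker (show x ∈ K by simpa using h1 1)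
    refine ⟨hxM, fun i => ?_⟩
    obtain ⟨y, hy, hye⟩ := h1 (g ^ i.val)
    show Multiplicative.toAdd (μ (c i.val ⟨x, hxM⟩)) = 0
    rw [show c i.val ⟨x, hxM⟩ = y from Subtype.ext hye.symm, show μ y = 1 from hy, toAdd_one]
  have hkM : π.ker ≤ M := fun x hx => (hker x hx).1
  rw [← Subgroup.index_ker, ← Subgroup.relIndex_mul_index hkM, hidx, pow_succ]
  refine Nat.mul_le_mul_right p ?_
  have hcard : Nat.card (ZMod p → ZMod p) = p ^ p := by rw [Nat.card_fun, Nat.card_zmod]
  rw [← hcard, Subgroup.relIndex, Subgroup.index_eq_card]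
  refine Nat.card_le_card_of_surjective (fun q : M ⧸ π.ker.subgroupOf M => Quotient.liftOn' q (fun m i => e i m) ?_) ?_
  · intro a b hab
    have hab' : a⁻¹ * b ∈ π.ker.subgroupOf M := QuotientGroup.leftRel_apply.1 hab
    obtain ⟨_, h0⟩ := hker _ (Subgroup.mem_subgroupOf.1 hab')
    funext i
    have h1 : e i (a * (a⁻¹ * b)) = e i a + e i (a⁻¹ * b) := by
      simp only [e, hcmul, map_mul, toAdd_mul]
    rw [mul_inv_cancel_left, show e i (a⁻¹ * b) = 0 from h0 i, add_zero] at h1
    exact h1.symm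
  · intro a
    obtain ⟨m, hm⟩ := hsurj a
    exact ⟨(m : M ⧸ π.ker.subgroupOf M), funext hm⟩

end CfsgLib.Yoshida
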